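import Groth.Agent.AbVarEuler.Devissage
import Groth.Agent.AbVarEuler.PushAffine
import Groth.Agent.Misc6.FinCovCover
import Groth.Agent.ResPropDescent.Main
import Groth.Agent.SpectralTopology.ConsModLocus
import Groth.Agent.DerivedCoh.KFlat.TensorPullback
import Groth.Agent.CohBase.AffineBC
import Groth.Agent.CohTwo.PushClosed
import Groth.Agent.CohFin.Proper
import Groth.Agent.Pi1FEt.Splitting
import Groth.Agent.CohBase.AffineHomCriterion

/-!
# The Euler characteristic is multiplicative in finite étale covers

`χ(X', φ^* F) = d χ(X, F)` for a finite étale cover `φ` of degree `d` of proper schemes over a field,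
by induction on `d`: after base change to `X'` the cover splits off the diagonal.
-/

set_option autoImplicit false

universe u

open CategoryTheory CategoryTheory.Limits AlgebraicGeometry TopologicalSpace

noncomputable section

namespace Groth.Variety2.EtaleEuler

variable (k : Type u) [Field k]

/-- The Euler characteristic of a coherent module splits along two complementary clopen subschemes. -/
theorem euler_clopen {W : Scheme.{u}} [W.Over (Spec (CommRingCat.of k))]
    [IsProper (W ↘ Spec (CommRingCat.of k))] (U V : W.Opens) (hU : IsClosed (U : Set W))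
    (hV : IsClosed (V : Set W)) (hc : ∀ w : W, w ∈ U ↔ w ∉ V) {G : W.Modules} (hG : Coh.IsCoh G) :
    letI : (U : Scheme.{u}).Over (Spec (CommRingCat.of k)) := ⟨U.ι ≫ (W ↘ Spec (CommRingCat.of k))⟩
    letI : (V : Scheme.{u}).Over (Spec (CommRingCat.of k)) := ⟨V.ι ≫ (W ↘ Spec (CommRingCat.of k))⟩
    Curv2.euler k W G = Curv2.euler k (U : Scheme.{u}) (G.restrict U.ι) +
      Curv2.euler k (V : Scheme.{u}) (G.restrict V.ι) := by
  letI : (U : Scheme.{u}).Over (Spec (CommRingCat.of k)) := ⟨U.ι ≫ (W ↘ Spec (CommRingCat.of k))⟩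
  letI : (V : Scheme.{u}).Over (Spec (CommRingCat.of k)) := ⟨V.ι ≫ (W ↘ Spec (CommRingCat.of k))⟩
  have : IsClosedImmersion U.ι := .of_isPreimmersion _ (by rw [Scheme.Opens.range_ι]; exact hU)
  have : IsClosedImmersion V.ι := .of_isPreimmersion _ (by rw [Scheme.Opens.range_ι]; exact hV)
  have : IsProper ((U : Scheme.{u}) ↘ Spec (CommRingCat.of k)) :=
    inferInstanceAs (IsProper (U.ι ≫ (W ↘ Spec (CommRingCat.of k))))
  have : IsProper ((V : Scheme.{u}) ↘ Spec (CommRingCat.of k)) :=
    inferInstanceAs (IsProper (V.ι ≫ (W ↘ Spec (CommRingCat.of k))))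
  have := Groth.Inter.isNoetherian (k := k) (X := W)
  let φ : W.Modules → ℤ := fun H => Curv2.euler k W H -
    Curv2.euler k (U : Scheme.{u}) (H.restrict U.ι) - Curv2.euler k (V : Scheme.{u}) (H.restrict V.ι)
  suffices h : φ G = 0 by
    simp only [φ] at h
    omega
  refine Groth.Inter.additive_eq_zero φ (fun S hS c₁ c₂ c₃ => ?_) isClosed_univ (fun y _ => ?_) hG
    (Set.subset_univ _)
  · have h0 := Groth.Inter.euler_add k hS c₁ c₃
    have exU : ∀ (A : W.Opens), PreservesFiniteLimits (Scheme.Modules.restrictFunctor A.ι) ∧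
        PreservesFiniteColimits (Scheme.Modules.restrictFunctor A.ι) := fun A =>
      ⟨CohBase.preservesFiniteLimits_restrictFunctor A.ι,
        haveI : PreservesColimitsOfSize.{0, 0} (Scheme.Modules.restrictFunctor A.ι) :=
          (Scheme.Modules.restrictAdjunction A.ι).leftAdjoint_preservesColimits
        PreservesColimitsOfSize.preservesFiniteColimits _⟩
    obtain ⟨_, _⟩ := exU U
    obtain ⟨_, _⟩ := exU V
    have hSU := hS.map_of_exact (Scheme.Modules.restrictFunctor U.ι)
    have hSV := hS.map_of_exact (Scheme.Modules.restrictFunctor V.ι)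
    have h1 := Groth.Inter.euler_add k hSU (CohFin.isCoh_restrict c₁ U) (CohFin.isCoh_restrict c₃ U)
    have h2 := Groth.Inter.euler_add k hSV (CohFin.isCoh_restrict c₁ V) (CohFin.isCoh_restrict c₃ V)
    simp only [φ]
    change Curv2.euler k (U : Scheme.{u}) (S.X₂.restrict U.ι) =
      Curv2.euler k (U : Scheme.{u}) (S.X₁.restrict U.ι) + Curv2.euler k (U : Scheme.{u}) (S.X₃.restrict U.ι) at h1
    change Curv2.euler k (V : Scheme.{u}) (S.X₂.restrict V.ι) =
      Curv2.euler k (V : Scheme.{u}) (S.X₁.restrict V.ι) + Curv2.euler k (V : Scheme.{u}) (S.X₃.restrict V.ι) at h2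
    omega
  · have key : ∀ (A B : W.Opens), IsClosed (A : Set W) → IsClosedImmersion A.ι →
        IsClosedImmersion B.ι → (∀ w : W, w ∈ A → w ∉ B) → y ∈ A →
        letI : (A : Scheme.{u}).Over (Spec (CommRingCat.of k)) := ⟨A.ι ≫ (W ↘ Spec (CommRingCat.of k))⟩
        letI : (B : Scheme.{u}).Over (Spec (CommRingCat.of k)) := ⟨B.ι ≫ (W ↘ Spec (CommRingCat.of k))⟩
        Curv2.euler k W (Cyc.closureStructureSheaf y) =
          Curv2.euler k (A : Scheme.{u}) ((Cyc.closureStructureSheaf y).restrict A.ι) ∧
        Curv2.euler k (B : Scheme.{u}) ((Cyc.closureStructureSheaf y).restrict B.ι) = 0 := by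
      intro A B hA hAi hBi hAB hyA
      letI : (A : Scheme.{u}).Over (Spec (CommRingCat.of k)) := ⟨A.ι ≫ (W ↘ Spec (CommRingCat.of k))⟩
      letI : (B : Scheme.{u}).Over (Spec (CommRingCat.of k)) := ⟨B.ι ≫ (W ↘ Spec (CommRingCat.of k))⟩
      let I := IntMult.ptIdeal y
      let i := I.subschemeι
      have hr : Set.range i ⊆ (A : Set W) := by
        refine (Scheme.IdealSheafData.range_subschemeι I).trans_subset ?_
        refine (le_of_eq ?_).trans (closure_minimal (Set.singleton_subset_iff.2 hyA) hA)
        exact Scheme.IdealSheafData.coe_support_vanishingIdeal _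
      refine ⟨?_, ?_⟩
      · let j := IsOpenImmersion.lift A.ι i (by rwa [Scheme.Opens.range_ι])
        have hj : j ≫ A.ι = i := IsOpenImmersion.lift_fac _ _ _
        have : IsClosedImmersion (j ≫ A.ι) := hj.symm ▸ inferInstance
        have : IsClosedImmersion j := IsClosedImmersion.of_comp j A.ι
        have sq : IsPullback (𝟙 I.subscheme) j i A.ι := by
          refine IsPullback.of_isLimit' ⟨by rw [Category.id_comp, hj]⟩ (PullbackCone.IsLimit.mk _
            (fun s => s.fst) (fun s => Category.comp_id _) (fun s => ?_) fun s m h₁ h₂ => ?_)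
          · rw [← cancel_mono A.ι, Category.assoc, hj]
            exact s.condition
          · exact (Category.comp_id m).symm.trans h₁
        have hO : Coh.IsCoh (Coh.structureModule I.subscheme) :=
          Groth.Inter.isCoh_of_isInvertible (Groth.EulerDeg.isInvertible_structureModule _)
        have := hO.1
        obtain ⟨θ⟩ := Groth.CohBase.AffineBC.nonempty_affine_bc sq (Coh.structureModule I.subscheme)
        letI : I.subscheme.Over (Spec (CommRingCat.of k)) := ⟨i ≫ (W ↘ Spec (CommRingCat.of k))⟩
        have : IsProper (I.subscheme ↘ Spec (CommRingCat.of k)) :=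
          inferInstanceAs (IsProper (i ≫ (W ↘ Spec (CommRingCat.of k))))
        have : IsProper ((A : Scheme.{u}) ↘ Spec (CommRingCat.of k)) :=
          inferInstanceAs (IsProper (A.ι ≫ (W ↘ Spec (CommRingCat.of k))))
        have e1 : Curv2.euler k W (Cyc.closureStructureSheaf y) =
            Curv2.euler k I.subscheme (Coh.structureModule I.subscheme) :=
          AbVarEuler.euler_push_affine i rfl _ hO.1
        refine e1.trans (Eq.trans ?_ (EulerDeg.euler_congr k
          (((Scheme.Modules.restrictFunctorIsoPullback A.ι).app _) ≪≫ θ)).symm)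
        rw [AbVarEuler.euler_push_affine (k := k) j (by
          change j ≫ A.ι ≫ _ = i ≫ _
          rw [← Category.assoc, hj]) _ (QCohMod.isQCoh_pullback_obj (𝟙 _) _)]
        exact (EulerDeg.euler_congr k ((Scheme.Modules.pullbackId I.subscheme).app _)).symm
      · have hz : IsZero ((Cyc.closureStructureSheaf y).restrict B.ι) := by
          have hc' := CohFin.isCoh_restrict (KTheory.Devissage.isCoh_closureStructureSheaf y) B
          have := hc'.1
          refine (QCohMod.isZero_iff_support_eq_empty _).2 (Set.eq_empty_of_forall_notMem fun b hb => ?_)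
          have h1 : B.ι b ∈ CohB1.support (Cyc.closureStructureSheaf y) := fun hs =>
            have : Subsingleton ((Cyc.closureStructureSheaf y).presheaf.stalk (B.ι b)) := hs
            hb (@Equiv.subsingleton _ _ ((Scheme.Modules.restrictStalkNatIso B.ι b).app _).addCommGroupIsoToAddEquiv.toEquiv this)
          have h2 := KTheory.Devissage.support_closureStructureSheaf_subset y h1
          exact hAB _ (closure_minimal (Set.singleton_subset_iff.2 hyA) hA h2) b.2
        exact EulerDeg.euler_of_isZero fun n => Sheaf.subsingleton_H_of_isZero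
          ((SheafOfModules.toSheaf _).map_isZero hz) n
    simp only [φ]
    by_cases hy : y ∈ U
    · obtain ⟨a, b⟩ := key U V hU inferInstance inferInstance (fun w => (hc w).1) hy
      omega
    · obtain ⟨a, b⟩ := key V U hV inferInstance inferInstance
        (fun w hw hwU => (hc w).1 hwU hw) (by_contra fun h => hy ((hc y).2 h))
      omega

/-- **`χ(φ^* F) = d χ(F)`.** -/
theorem euler_pullback : ∀ (d : ℕ) {X X' : Scheme.{u}} [X.Over (Spec (CommRingCat.of k))]
    [X'.Over (Spec (CommRingCat.of k))] [IsProper (X ↘ Spec (CommRingCat.of k))]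
    [IsProper (X' ↘ Spec (CommRingCat.of k))] (φ : X' ⟶ X) [IsFinite φ] [Etale φ],
    φ ≫ (X ↘ Spec (CommRingCat.of k)) = X' ↘ Spec (CommRingCat.of k) →
    (∀ y : X, φ.finrank y = d) → ∀ {F : X.Modules}, Coh.IsCoh F →
    Curv2.euler k X' ((Scheme.Modules.pullback φ).obj F) = (d : ℤ) * Curv2.euler k X F := by
  intro d
  induction d with
  | zero =>
    intro X X' _ _ _ _ φ _ _ hφ hd F hF
    have : IsEmpty X' := ⟨fun x => by
      have := Scheme.Hom.one_le_finrank_map φ x
      rw [hd] at this
      omega⟩
    have := Groth.Inter.isNoetherian (k := k) (X := X')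
    have hp := Groth.SpectralTopology.ConsModLocus.isCoh_pullback_obj φ hF
    have := hp.1
    rw [Groth.Inter.euler_of_isZero k ((Groth.QCohMod.isZero_iff_support_eq_empty _).2
      (Set.eq_empty_of_forall_notMem fun x => isEmptyElim x))]
    simp
  | succ d ih =>
    intro X X' _ _ _ _ φ _ _ hφ hd F hF
    have := Groth.Inter.isNoetherian (k := k) (X := X)
    have := Groth.Inter.isNoetherian (k := k) (X := X')
    let E := (Scheme.Modules.pushforward φ).obj (Coh.structureModule X')
    have : LocallyOfFinitePresentation φ := inferInstance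
    have hE : FlatMod.IsFinLocFreeOfRank (d + 1) E :=
      Groth.Misc6.FinCov.pushforward_of_isCover φ (d + 1) ⟨⟨inferInstance, inferInstance, inferInstance⟩, hd⟩
    have hEl := Groth.LocFree.isFinLocFree_of_rank hE
    have hEc : Coh.IsCoh E := Groth.KTheory.LocFree.isCoh hEl
    have hsupp : CohB1.support E = Set.univ := Set.eq_univ_of_forall fun y hy => by
      have h := Groth.LocFree.finrank_stalk hE y
      rw [Module.finrank_zero_of_subsingleton] at h
      omega
    have hgam : ∀ G : X.Modules, Coh.IsCoh G → Nonempty (CohB1.tensorMod E G ≅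
        (Scheme.Modules.pushforward φ).obj ((Scheme.Modules.pullback φ).obj G)) := fun G hG => by
      have := hG.1
      have := hEc.1
      have := Groth.ResPropDescent.isIso_gamma φ G
      obtain ⟨b, -⟩ := Groth.PicAux.exists_braiding E G
      exact ⟨b ≪≫ asIso (Groth.ResPropDescent.gamma φ G)⟩
    -- the square `X' ×_X X'` and its two pieces
    let W := pullback φ φ
    let p := pullback.fst φ φ
    let q := pullback.snd φ φ
    let δ := pullback.diagonal φ
    have : IsFinite q := MorphismProperty.pullback_snd (P := @IsFinite) φ φ inferInstance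
    have : Etale q := MorphismProperty.pullback_snd (P := @Etale) φ φ inferInstance
    have : IsFinite p := MorphismProperty.pullback_fst (P := @IsFinite) φ φ inferInstance
    have : Etale p := MorphismProperty.pullback_fst (P := @Etale) φ φ inferInstance
    letI : W.Over (Spec (CommRingCat.of k)) := ⟨q ≫ (X' ↘ Spec (CommRingCat.of k))⟩
    have : IsProper (W ↘ Spec (CommRingCat.of k)) :=
      inferInstanceAs (IsProper (q ≫ (X' ↘ Spec (CommRingCat.of k))))
    have : IsOpenImmersion δ := inferInstance
    have : IsClosedImmersion δ := inferInstance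
    let C : W.Opens := ⟨(Set.range δ)ᶜ, δ.isClosedEmbedding.isClosed_range.isOpen_compl⟩
    let D : W.Opens := δ.opensRange
    have hD : IsClosed (D : Set W) := δ.isClosedEmbedding.isClosed_range
    have hC : IsClosed (C : Set W) := δ.isOpenEmbedding.isOpen_range.isClosed_compl
    have : IsClosedImmersion C.ι := .of_isPreimmersion _ (by rw [Scheme.Opens.range_ι]; exact hC)
    let c : (C : Scheme.{u}) ⟶ X' := C.ι ≫ q
    have : IsFinite c := inferInstance
    have : Etale c := inferInstance
    letI : (C : Scheme.{u}).Over (Spec (CommRingCat.of k)) := ⟨C.ι ≫ (W ↘ Spec (CommRingCat.of k))⟩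
    letI : (D : Scheme.{u}).Over (Spec (CommRingCat.of k)) := ⟨D.ι ≫ (W ↘ Spec (CommRingCat.of k))⟩
    have : IsProper ((C : Scheme.{u}) ↘ Spec (CommRingCat.of k)) :=
      inferInstanceAs (IsProper (C.ι ≫ (W ↘ Spec (CommRingCat.of k))))
    have hδq : δ ≫ q = 𝟙 X' := pullback.lift_snd _ _ _
    have hδp : δ ≫ p = 𝟙 X' := pullback.lift_fst _ _ _
    have hcdeg : ∀ x, c.finrank x = d := by
      intro x
      obtain ⟨Ω, _, _, ξ, hξ, hcard⟩ := Groth.Pi1FEt.exists_geomPoint_natCard c x
      have hq : q.finrank x = d + 1 := by rw [Scheme.Hom.finrank_pullback_snd, hd]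
      rw [← hξ, Groth.Pi1FEt.finrank_eq_natCard] at hq
      haveI : Finite {z : Spec (CommRingCat.of Ω) ⟶ W // z ≫ q = ξ} :=
        (Nat.card_pos_iff.1 (hq ▸ Nat.succ_pos d)).2
      let g : {w : Spec (CommRingCat.of Ω) ⟶ (C : Scheme.{u}) // w ≫ c = ξ} →
          {z : Spec (CommRingCat.of Ω) ⟶ W // z ≫ q = ξ} :=
        fun w => ⟨w.1 ≫ C.ι, by rw [Category.assoc]; exact w.2⟩
      have hg : Function.Injective g := fun w w' h =>
        Subtype.ext ((cancel_mono C.ι).1 (congrArg Subtype.val h))
      haveI : Finite {w : Spec (CommRingCat.of Ω) ⟶ (C : Scheme.{u}) // w ≫ c = ξ} := Finite.of_injective g hg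
      let G : Option {w : Spec (CommRingCat.of Ω) ⟶ (C : Scheme.{u}) // w ≫ c = ξ} →
          {z : Spec (CommRingCat.of Ω) ⟶ W // z ≫ q = ξ} :=
        fun o => o.elim ⟨ξ ≫ δ, by rw [Category.assoc, hδq, Category.comp_id]⟩ g
      have hne : ∀ w : Spec (CommRingCat.of Ω) ⟶ (C : Scheme.{u}), w ≫ C.ι ≠ ξ ≫ δ := fun w h => by
        have h1 : C.ι (w default) = δ (ξ default) := by
          rw [← Scheme.Hom.comp_apply, h, Scheme.Hom.comp_apply]
        exact (show C.ι (w default) ∈ C from (w default).2) ⟨ξ default, h1.symm⟩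
      have hG : Function.Bijective G := by
        refine ⟨fun a b h => ?_, fun z => ?_⟩
        · rcases a with _ | a <;> rcases b with _ | b
          · rfl
          · exact (hne b.1 (congrArg Subtype.val h).symm).elim
          · exact (hne a.1 (congrArg Subtype.val h)).elim
          · exact congrArg some (hg h)
        · by_cases hz : z.1 default ∈ Set.range δ
          · have hl := IsOpenImmersion.lift_fac δ z.1 (by rintro _ ⟨t, rfl⟩; rwa [Unique.eq_default t])
            refine ⟨none, Subtype.ext ?_⟩
            change ξ ≫ δ = z.1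
            generalize IsOpenImmersion.lift δ z.1 _ = w at hl
            rw [← hl, ← z.2, ← hl, Category.assoc w δ q, hδq, Category.comp_id]
          · have hl := IsOpenImmersion.lift_fac C.ι z.1 (by
              rintro _ ⟨t, rfl⟩
              rw [Scheme.Opens.range_ι, Unique.eq_default t]
              exact hz)
            generalize IsOpenImmersion.lift C.ι z.1 _ = w at hl
            exact ⟨some ⟨w, by rw [← z.2, ← hl, Category.assoc]⟩, Subtype.ext hl⟩
      rw [← Nat.card_congr (Equiv.ofBijective G hG), Finite.card_option, ← hcard] at hq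
      omega
    have hψ : (C.ι ≫ p) ≫ (X' ↘ Spec (CommRingCat.of k)) =
        (C : Scheme.{u}) ↘ Spec (CommRingCat.of k) := by
      change _ = C.ι ≫ q ≫ (X' ↘ Spec (CommRingCat.of k))
      rw [Category.assoc, ← hφ, ← Category.assoc p, ← Category.assoc q, pullback.condition]
    -- the symmetry exchanges the projections
    have hcdeg' : ∀ x, (C.ι ≫ p).finrank x = d := by
      intro x
      let τ := pullbackSymmetry φ φ
      have hτδ : δ ≫ τ.hom = δ := by
        apply pullback.hom_ext
        · rw [Category.assoc, pullbackSymmetry_hom_comp_fst, hδq, hδp]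
        · rw [Category.assoc, pullbackSymmetry_hom_comp_snd, hδp, hδq]
      have hτC : ∀ w : W, τ.hom w ∈ C ↔ w ∈ C := fun w => by
        change ¬ (τ.hom w ∈ Set.range δ) ↔ ¬ (w ∈ Set.range δ)
        refine not_congr ⟨fun ⟨z, hz⟩ => ⟨z, τ.hom.homeomorph.injective ?_⟩, fun ⟨z, hz⟩ => ⟨z, ?_⟩⟩
        · change τ.hom (δ z) = τ.hom w
          rw [← Scheme.Hom.comp_apply, hτδ, hz]
        · rw [← hz, ← Scheme.Hom.comp_apply, hτδ]
      let τC : (C : Scheme.{u}) ⟶ (C : Scheme.{u}) := IsOpenImmersion.lift C.ι (C.ι ≫ τ.hom) (by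
        rw [Scheme.Opens.range_ι]
        rintro _ ⟨t, rfl⟩
        exact (hτC _).2 t.2)
      have hτι : τC ≫ C.ι = C.ι ≫ τ.hom := IsOpenImmersion.lift_fac _ _ _
      have h2 : τC ≫ τC = 𝟙 _ := by
        rw [← cancel_mono C.ι, Category.assoc, hτι, ← Category.assoc, hτι, Category.assoc,
          show τ.hom ≫ τ.hom = 𝟙 W from by
            apply pullback.hom_ext <;> simp [τ, W],
          Category.comp_id, Category.id_comp]
      have : IsIso τC := ⟨τC, h2, h2⟩
      have hp : C.ι ≫ p = τC ≫ c := by
        rw [← Category.assoc, hτι, Category.assoc, pullbackSymmetry_hom_comp_snd]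
      rw [hp, Scheme.Hom.finrank_comp_left_of_isIso]
      exact hcdeg x
    have hWs : (D.ι ≫ q) ≫ (X' ↘ Spec (CommRingCat.of k)) = (D : Scheme.{u}) ↘ Spec (CommRingCat.of k) :=
      Category.assoc _ _ _
    have hpW : p ≫ (X' ↘ Spec (CommRingCat.of k)) = W ↘ Spec (CommRingCat.of k) := by
      change _ = q ≫ (X' ↘ Spec (CommRingCat.of k))
      rw [← hφ, ← Category.assoc, pullback.condition, Category.assoc]
    have main : ∀ {G : X'.Modules}, Coh.IsCoh G →
        Curv2.euler k X' ((Scheme.Modules.pullback φ).obj ((Scheme.Modules.pushforward φ).obj G)) =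
          ((d + 1 : ℕ) : ℤ) * Curv2.euler k X' G := fun {G} hG => by
      have := hG.1
      obtain ⟨θ⟩ := Groth.CohBase.AffineBC.nonempty_affine_bc (IsPullback.of_hasPullback φ φ) G
      have hGW := Groth.SpectralTopology.ConsModLocus.isCoh_pullback_obj p hG
      rw [Groth.EulerDeg.euler_congr k θ,
        Groth.AbVarEuler.euler_push_affine (k := k) q rfl _ hGW.1,
        euler_clopen k D C hD hC (fun w => not_not.symm) hGW]
      have e1 : Curv2.euler k (D : Scheme.{u}) (((Scheme.Modules.pullback p).obj G).restrict D.ι) =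
          Curv2.euler k X' G := by
        let e := δ.isoOpensRange
        have he : e.hom ≫ D.ι = δ := δ.isoOpensRange_hom_ι
        have hid : (D.ι ≫ p) = e.inv := by
          rw [← cancel_epi e.hom, e.hom_inv_id, ← Category.assoc, he, hδp]
        have hk : e.inv ≫ (X' ↘ Spec (CommRingCat.of k)) = (D : Scheme.{u}) ↘ Spec (CommRingCat.of k) := by
          rw [← hid, Category.assoc, hpW]
          rfl
        refine (Groth.EulerDeg.euler_congr k ((Scheme.Modules.restrictFunctorIsoPullback D.ι).app _ ≪≫
          (Scheme.Modules.pullbackComp D.ι p).app G ≪≫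
          eqToIso (congrArg (fun b => (Scheme.Modules.pullback b).obj G) hid))).trans ?_
        have : IsProper ((D : Scheme.{u}) ↘ Spec (CommRingCat.of k)) :=
          hk ▸ inferInstanceAs (IsProper (e.inv ≫ (X' ↘ Spec (CommRingCat.of k))))
        have hq' := Groth.SpectralTopology.ConsModLocus.isCoh_pullback_obj e.inv hG
        rw [← Groth.AbVarEuler.euler_push_affine (k := k) e.inv hk _ hq'.1]
        obtain ⟨θ'⟩ := Groth.CohBase.AffineBC.nonempty_affine_bc
          (IsPullback.of_horiz_isIso (⟨by simp⟩ : CommSq e.inv e.inv (𝟙 X') (𝟙 X'))) G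
        exact Groth.EulerDeg.euler_congr k (θ'.symm ≪≫ (Scheme.Modules.pullbackId X').app _ ≪≫
          (Scheme.Modules.pushforwardId X').app G)
      have e2 : Curv2.euler k (C : Scheme.{u}) (((Scheme.Modules.pullback p).obj G).restrict C.ι) =
          (d : ℤ) * Curv2.euler k X' G := by
        refine (Groth.EulerDeg.euler_congr k ((Scheme.Modules.restrictFunctorIsoPullback C.ι).app _ ≪≫
          (Scheme.Modules.pullbackComp C.ι p).app G)).trans ?_
        exact ih (C.ι ≫ p) hψ hcdeg' hG
      rw [e1, e2]
      push_cast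
      ring
    have key : Groth.EulerDeg.tensorDefect k E (d + 1) F = 0 := by
      refine Groth.AbVarEuler.eq_zero_of_tensor (Groth.EulerDeg.tensorDefect k E (d + 1))
        (fun S hS h₁ h₂ h₃ => Groth.EulerDeg.tensorDefect_add k hE hS h₁ h₂ h₃) E hEc hsupp (fun y => ?_) hF
      have hy := Groth.KTheory.Devissage.isCoh_closureStructureSheaf y
      have hEy := Groth.EulerDeg.isCoh_tensor hEc hy
      have hy' := Groth.SpectralTopology.ConsModLocus.isCoh_pullback_obj φ hy
      simp only [Groth.EulerDeg.tensorDefect]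
      rw [Groth.EulerDeg.euler_congr k (hgam _ hEy).some,
        Groth.AbVarEuler.euler_push_affine (k := k) φ hφ _
          (Groth.SpectralTopology.ConsModLocus.isCoh_pullback_obj φ hEy).1,
        Groth.EulerDeg.euler_congr k ((Scheme.Modules.pullback φ).mapIso (hgam _ hy).some), main hy',
        Groth.EulerDeg.euler_congr k (hgam _ hy).some,
        Groth.AbVarEuler.euler_push_affine (k := k) φ hφ _ hy'.1, sub_self]
    rw [Groth.EulerDeg.tensorDefect, Groth.EulerDeg.euler_congr k (hgam F hF).some,
      Groth.AbVarEuler.euler_push_affine (k := k) φ hφ _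
        (Groth.SpectralTopology.ConsModLocus.isCoh_pullback_obj φ hF).1, sub_eq_zero] at key
    exact key

end Groth.Variety2.EtaleEuler
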